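import Mathlib
import Groth.Prelude.Def_FEt

set_option autoImplicit false
universe u

open AlgebraicGeometry

namespace Groth.Agent.H17.PS

/-- the inclusion of the punctured spectrum into the prime spectrum -/
def pι (R : Type u) [CommRing R] [IsLocalRing R] : ↥(FEt.puncturedSpec R) → PrimeSpectrum R :=
  fun x => x.1

theorem isOpenEmbedding_pι (R : Type u) [CommRing R] [IsLocalRing R] :
    Topology.IsOpenEmbedding (pι R) :=
  (FEt.puncturedSpec R).2.isOpenEmbedding_subtypeVal

theorem range_pι (R : Type u) [CommRing R] [IsLocalRing R] :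
    Set.range (pι R) = ({IsLocalRing.closedPoint R}ᶜ : Set (PrimeSpectrum R)) := by
  ext x
  constructor
  · rintro ⟨y, rfl⟩
    exact y.2
  · intro hx
    exact ⟨⟨x, hx⟩, rfl⟩

theorem closedPoint_mem_of_isClosed (R : Type u) [CommRing R] [IsLocalRing R]
    (C : Set (PrimeSpectrum R)) (hC : IsClosed C) (hne : C.Nonempty) :
    IsLocalRing.closedPoint R ∈ C := by
  obtain ⟨x, hx⟩ := hne
  exact (IsLocalRing.specializes_closedPoint x).mem_closed hC hx

end Groth.Agent.H17.PS
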