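import Mathlib
import Groth.Statements.S3362
import Groth.Agent.S11670
import Groth.Agent.H9.BS_C2
import Groth.Agent.H58.ConnDim2
import Groth.Agent.H17.FC.T6
import Groth.Agent.H17.PS.Defs
import Groth.Agent.H1.PS_G3
import Groth.Agent.H9.PS_G1
import Groth.Agent.H9.PS_G5
import Groth.Agent.H26.PS_R1
import Groth.Agent.H48.PS_G4
import Groth.Agent.H58.PS_G2
import Groth.Agent.H73.PS_G7
import Groth.Agent.H97.PS_G6

set_option autoImplicit false
universe u

open AlgebraicGeometry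

namespace Groth.Agent.H17.PS


theorem nat_le_of_add_one_le_add_one (N : ℕ) (y : WithBot ℕ∞)
    (h : ((N + 1 : ℕ) : WithBot ℕ∞) ≤ y + 1) : ((N : ℕ) : WithBot ℕ∞) ≤ y := by
  induction y using WithBot.recBotCoe with
  | bot => simp at h
  | coe z =>
    induction z using ENat.recTopCoe with
    | top => exact le_top
    | coe n =>
      have h' : N + 1 ≤ n + 1 := by exact_mod_cast h
      exact_mod_cast Nat.le_of_succ_le_succ h'

theorem sub_add_one_le_of (k m c : ℕ) (y : WithBot ℕ∞) (hm : m ≤ k) (hc : c ≤ m)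
    (h : ((k + 1 + 1 : ℕ) : WithBot ℕ∞) ≤ y + (c : WithBot ℕ∞) + 1) :
    ((k - m + 1 : ℕ) : WithBot ℕ∞) ≤ y := by
  induction y using WithBot.recBotCoe with
  | bot => simp at h
  | coe z =>
    induction z using ENat.recTopCoe with
    | top => exact le_top
    | coe n =>
      have h' : k + 1 + 1 ≤ n + c + 1 := by exact_mod_cast h
      obtain ⟨j, hj⟩ : ∃ j, j = k - m + 1 := ⟨_, rfl⟩
      rw [← hj]
      have h'' : j ≤ n := by omega
      exact_mod_cast h''

theorem sub_add_two_le_of (k m c : ℕ) (y : WithBot ℕ∞) (hm : m ≤ k) (hc : c ≤ m)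
    (h : ((k + 1 + 1 : ℕ) : WithBot ℕ∞) ≤ y + (c : WithBot ℕ∞)) :
    ((k - m + 1 + 1 : ℕ) : WithBot ℕ∞) ≤ y := by
  induction y using WithBot.recBotCoe with
  | bot => simp at h
  | coe z =>
    induction z using ENat.recTopCoe with
    | top => exact le_top
    | coe n =>
      have h' : k + 1 + 1 ≤ n + c := by exact_mod_cast h
      obtain ⟨j, hj⟩ : ∃ j, j = k - m + 1 + 1 := ⟨_, rfl⟩
      rw [← hj]
      have h'' : j ≤ n := by omega
      exact_mod_cast h''

theorem topologicalKrullDim_empty {U : Type u} [TopologicalSpace U] :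
    topologicalKrullDim ↥(∅ : Set U) = ⊥ := by
  unfold topologicalKrullDim
  haveI : IsEmpty (TopologicalSpace.IrreducibleCloseds ↥(∅ : Set U)) :=
    ⟨fun s => by obtain ⟨x, _⟩ := s.isIrreducible.nonempty; exact x.2.elim⟩
  exact Order.krullDim_eq_bot

theorem ring_part (A : Type u) [CommRing A] [IsNoetherianRing A] [IsLocalRing A]
    [IsAdicComplete (IsLocalRing.maximalIdeal A) A] (k m : ℕ) (hm : m ≤ k) (f : Fin m → A)
    (hf : ∀ i, f i ∈ IsLocalRing.maximalIdeal A) [IsLocalRing (A ⧸ Ideal.span (Set.range f))]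
    (h1 : ∀ p ∈ minimalPrimes A, ((k + 1 + 1 : ℕ) : WithBot ℕ∞) ≤ ringKrullDim (A ⧸ p))
    (h2 : ((k + 1 : ℕ) : WithBot ℕ∞) ≤ LocCoh.connDim (PrimeSpectrum A)) :
    (∀ P ∈ minimalPrimes (A ⧸ Ideal.span (Set.range f)),
      ((k - m + 1 + 1 : ℕ) : WithBot ℕ∞) ≤
        ringKrullDim ((A ⧸ Ideal.span (Set.range f)) ⧸ P)) ∧
    ((k - m + 1 : ℕ) : WithBot ℕ∞) ≤
      LocCoh.connDim (PrimeSpectrum (A ⧸ Ideal.span (Set.range f))) := by
  classical
  have ha : Ideal.span (Set.range f) ≠ ⊤ := by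
    have hle : Ideal.span (Set.range f) ≤ IsLocalRing.maximalIdeal A :=
      Ideal.span_le.2 (by rintro _ ⟨i, rfl⟩; exact hf i)
    exact fun h => (IsLocalRing.maximalIdeal.isMaximal A).ne_top (top_le_iff.1 (h ▸ hle))
  let s : Finset A := Finset.univ.image f
  have hs : (Ideal.span (s : Set A)).radical = (Ideal.span (Set.range f)).radical := by
    have : (s : Set A) = Set.range f := by simp [s]
    rw [this]
  have hcard : s.card ≤ m := by
    calc s.card ≤ (Finset.univ : Finset (Fin m)).card := Finset.card_image_le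
      _ = m := by simp
  have key := Groth.Agent.S11670.result A (Ideal.span (Set.range f)) ha s hs
  have hsd : ((k + 1 + 1 : ℕ) : WithBot ℕ∞) ≤ LocCoh.subdim (PrimeSpectrum A) := by
    apply Groth.Agent.H17.FC.add_one_le_subdim A (k + 1)
    intro p hp
    exact lt_of_lt_of_le (by exact_mod_cast Nat.lt_succ_self (k + 1)) (h1 p hp)
  have hcd : ((k + 1 + 1 : ℕ) : WithBot ℕ∞) ≤ LocCoh.connDim (PrimeSpectrum A) + 1 := by
    have e : ((k + 1 + 1 : ℕ) : WithBot ℕ∞) = ((k + 1 : ℕ) : WithBot ℕ∞) + 1 := by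
      push_cast; rfl
    rw [e]
    gcongr
  have hB := (le_min hcd hsd).trans key
  have hc' : ((k - m + 1 : ℕ) : WithBot ℕ∞) ≤
      LocCoh.connDim (PrimeSpectrum (A ⧸ Ideal.span (Set.range f))) :=
    sub_add_one_le_of k m s.card _ hm hcard hB
  refine ⟨?_, hc'⟩
  intro P hP
  obtain ⟨p, hp, -⟩ := Ideal.exists_minimalPrimes_le
    (bot_le : (⊥ : Ideal A) ≤ IsLocalRing.maximalIdeal A)
  have hC2 := Groth.Agent.H9.BS.dim_quotient_minimalPrime_le_add_card A
    (Ideal.span (Set.range f)) ha s hs p hp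
  have hd : ((k - m + 1 + 1 : ℕ) : WithBot ℕ∞) ≤ ringKrullDim (A ⧸ Ideal.span (Set.range f)) :=
    sub_add_two_le_of k m s.card _ hm hcard ((h1 p hp).trans hC2)
  apply Groth.Agent.H26.PS_R1.le_dim_quotient_minimalPrime (A ⧸ Ideal.span (Set.range f)) (k - m + 1) ?_ hd P hP
  intro Z' hZ' hnc
  unfold LocCoh.connDim at hc'
  exact (le_iInf₂_iff.1 hc') Z' ⟨hZ', hnc⟩

theorem main3362 (A : Type u) [CommRing A] [IsNoetherianRing A] [IsLocalRing A]
    [IsAdicComplete (IsLocalRing.maximalIdeal A) A] (k : ℕ) (hk : 1 ≤ k)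
    (ha : ∀ Z ∈ irreducibleComponents ↥(FEt.puncturedSpec A),
      ((k + 1 : ℕ) : WithBot ℕ∞) ≤ topologicalKrullDim ↥Z)
    (hb : LefX.ConnectedInDim ↥(FEt.puncturedSpec A) k) (m : ℕ) (hm : m ≤ k) (f : Fin m → A)
    (hf : ∀ i, f i ∈ IsLocalRing.maximalIdeal A) [IsLocalRing (A ⧸ Ideal.span (Set.range f))] :
    (∀ Z ∈ irreducibleComponents ↥(FEt.puncturedSpec (A ⧸ Ideal.span (Set.range f))),
      ((k - m + 1 : ℕ) : WithBot ℕ∞) ≤ topologicalKrullDim ↥Z) ∧
    LefX.ConnectedInDim ↥(FEt.puncturedSpec (A ⧸ Ideal.span (Set.range f))) (k - m) := by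
  classical
  have hιA := isOpenEmbedding_pι A
  have hrA := range_pι A
  have hlocA := closedPoint_mem_of_isClosed A
  have hιB := isOpenEmbedding_pι (A ⧸ Ideal.span (Set.range f))
  have hrB := range_pι (A ⧸ Ideal.span (Set.range f))
  have hlocB := closedPoint_mem_of_isClosed (A ⧸ Ideal.span (Set.range f))
  have hUA : Nonempty ↥(FEt.puncturedSpec A) := by
    have h0 := hb ∅ isClosed_empty (by rw [topologicalKrullDim_empty]; exact WithBot.bot_lt_coe _)
    obtain ⟨x, -⟩ := h0.nonempty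
    exact ⟨x⟩
  have h1 : ∀ p ∈ minimalPrimes A, ((k + 1 + 1 : ℕ) : WithBot ℕ∞) ≤ ringKrullDim (A ⧸ p) := by
    intro p hp
    have hW : PrimeSpectrum.zeroLocus (p : Set A) ∈ irreducibleComponents (PrimeSpectrum A) := by
      rw [← PrimeSpectrum.zeroLocus_minimalPrimes]
      exact ⟨p, hp, rfl⟩
    obtain ⟨hc1, hc2, hc3⟩ :=
      Groth.Agent.H48.PS_G4.preimage_mem_irreducibleComponents (pι A) hιA _ hrA hlocA hUA _ hW
    have hcl : IsClosed (pι A ⁻¹' PrimeSpectrum.zeroLocus (p : Set A)) :=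
      isClosed_of_mem_irreducibleComponents _ hc1
    have hG2 := Groth.Agent.H58.PS.dim_add_one_le (pι A) hιA _ hrA hlocA _ hcl hc3
    rw [hc2, Groth.Agent.H58.ConnDim.dim_zeroLocus] at hG2
    have h3 := ha _ hc1
    calc ((k + 1 + 1 : ℕ) : WithBot ℕ∞) = ((k + 1 : ℕ) : WithBot ℕ∞) + 1 := by push_cast; rfl
      _ ≤ topologicalKrullDim ↥(pι A ⁻¹' PrimeSpectrum.zeroLocus (p : Set A)) + 1 := by gcongr
      _ ≤ _ := hG2
  have h2 : ((k + 1 : ℕ) : WithBot ℕ∞) ≤ LocCoh.connDim (PrimeSpectrum A) := by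
    unfold LocCoh.connDim
    refine le_iInf₂ fun Z' hZ' => ?_
    exact Groth.Agent.H97.PS_G6.le_dim_of_connectedInDim (pι A) hιA _ hrA hlocA k hb
      (fun Z hZ hne => Groth.Agent.H58.PS.dim_add_one_le (pι A) hιA _ hrA hlocA Z hZ hne) Z' hZ'.1 hZ'.2
  obtain ⟨h1', h2'⟩ := ring_part A k m hm f hf h1 h2
  refine ⟨?_, ?_⟩
  · intro Z hZ
    have hW := Groth.Agent.H9.PS.image_union_pt_mem_irreducibleComponents
      (pι (A ⧸ Ideal.span (Set.range f))) hιB _ hrB hlocB Z hZ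
    rw [← PrimeSpectrum.zeroLocus_minimalPrimes] at hW
    obtain ⟨P, hP, hPW⟩ := hW
    have h3 := h1' P hP
    rw [← Groth.Agent.H58.ConnDim.dim_zeroLocus] at h3
    have hPW' : PrimeSpectrum.zeroLocus (P : Set (A ⧸ Ideal.span (Set.range f))) =
        pι (A ⧸ Ideal.span (Set.range f)) '' Z ∪
          {IsLocalRing.closedPoint (A ⧸ Ideal.span (Set.range f))} := hPW
    rw [hPW'] at h3
    have hG3 := Groth.Agent.H1.PS_G3.dim_le_dim_add_one (pι (A ⧸ Ideal.span (Set.range f))) hιB _ hrB hlocB Z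
      (isClosed_of_mem_irreducibleComponents _ hZ) hZ.1.nonempty
    exact nat_le_of_add_one_le_add_one _ _ (h3.trans hG3)
  · intro Z hZ hdim
    refine Groth.Agent.H73.PS_G7.connectedInDim_of_le_dim (pι (A ⧸ Ideal.span (Set.range f))) hιB _ hrB (k - m) ?_
      (fun Z hZ => Groth.Agent.H9.PS.isClosed_image_union_pt (pι (A ⧸ Ideal.span (Set.range f))) hιB _ hrB Z hZ)
      (fun Z hZ hne => Groth.Agent.H1.PS_G3.dim_le_dim_add_one (pι (A ⧸ Ideal.span (Set.range f))) hιB _ hrB hlocB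
        Z hZ hne) Z hZ hdim
    intro Z' hZ' hnc
    unfold LocCoh.connDim at h2'
    exact (le_iInf₂_iff.1 h2') Z' ⟨hZ', hnc⟩

end Groth.Agent.H17.PS
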